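import Groth.Agent.Lib.CiField.Basic
import Groth.Agent.Lib.CSA.Splitting
import Mathlib.LinearAlgebra.Matrix.NonsingularInverse
import Mathlib.FieldTheory.Galois.Basic

/-!
# The Brauer group of a C_1 field is trivial
-/

open scoped TensorProduct

namespace Groth.Agent.Lib.CiField.Brauer

universe u v w

open MvPolynomial

variable {K : Type u} [Field K] {D : Type v} [DivisionRing D] [Algebra K D] [Algebra.IsCentral K D]
  [FiniteDimensional K D]

theorem finrank_eq_one_of_splitting (hK : Curves.IsCr K 1) {L : Type w} [Field L] [Algebra K L]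
    [FiniteDimensional K L] [IsGalois K L] (hs : Curves.Splits K D L) : Module.finrank K D = 1 := by
  classical
  obtain ⟨n, hn, ⟨e⟩⟩ := hs
  have : NeZero n := ⟨hn⟩
  set N := Module.finrank K D
  have hN : N = n * n := by
    show Module.finrank K D = n * n
    rw [← Module.finrank_baseChange (R := L) (S := K) (M' := D), e.toLinearEquiv.finrank_eq,
      Module.finrank_matrix]
    simp
  let b := Module.finBasis K D
  let ψ : D →ₐ[K] Matrix (Fin n) (Fin n) L :=
    (e.toAlgHom.restrictScalars K).comp Algebra.TensorProduct.includeRight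
  let G : Matrix (Fin n) (Fin n) (MvPolynomial (Fin N) L) :=
    ∑ a, (X a : MvPolynomial (Fin N) L) • (ψ (b a)).map (C : L → MvPolynomial (Fin N) L)
  let P := G.det
  have hG : ∀ i j, G i j = ∑ a, X a * C (ψ (b a) i j) := fun i j => by
    show (∑ a, X a • (ψ (b a)).map C) i j = _
    simp [Matrix.sum_apply]
  have hhom : P.IsHomogeneous n := by
    show G.det.IsHomogeneous n
    rw [Matrix.det_apply]
    refine IsHomogeneous.sum _ _ _ fun τ _ => ?_
    rw [Units.smul_def, zsmul_eq_mul, ← map_intCast (C : L →+* MvPolynomial (Fin N) L)]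
    refine IsHomogeneous.C_mul ?_ _
    have h1 : ∀ i j, (G i j).IsHomogeneous 1 := fun i j => by
      rw [hG]
      refine IsHomogeneous.sum _ _ _ fun a _ => ?_
      simpa using (isHomogeneous_X L a).mul (isHomogeneous_C (Fin N) (ψ (b a) i j))
    simpa using IsHomogeneous.prod Finset.univ (fun i => G (τ i) i) (fun _ => 1) fun i _ => h1 _ _
  have hfix : ∀ σ : L ≃ₐ[K] L, MvPolynomial.map (σ : L →+* L) P = P := by
    intro σ
    have : IsSimpleRing (L ⊗[K] D) := CSA.Tensor.isSimpleRing_tensor
    let e' : L ⊗[K] D →ₐ[L] Matrix (Fin n) (Fin n) L := Algebra.TensorProduct.lift (Algebra.ofId L _)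
      ((σ.toAlgHom.mapMatrix (m := Fin n)).comp ψ) fun l M => Algebra.commutes l ((σ.toAlgHom.mapMatrix (m := Fin n)).comp ψ M)
    have : IsSimpleRing (Matrix (Fin n) (Fin n) L) := inferInstance
    obtain ⟨U, hU⟩ := CSA.Centralizer.skolem_noether (k := L) (e'.comp e.symm.toAlgHom) (AlgHom.id L _)
    have hψ : ∀ d, (ψ d).map σ = (U : Matrix (Fin n) (Fin n) L) * ψ d * (U⁻¹ : (Matrix (Fin n) (Fin n) L)ˣ) :=
      fun d => by
        have h := hU (ψ d)
        have hd : e'.comp e.symm.toAlgHom (ψ d) = (ψ d).map σ := by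
          show e' (e.symm (e (1 ⊗ₜ[K] d))) = _
          rw [e.symm_apply_apply]
          erw [Algebra.TensorProduct.lift_tmul]
          rw [map_one, one_mul]
          rfl
        rw [hd] at h
        exact h
    let U' := Units.map (RingHom.mapMatrix (C : L →+* MvPolynomial (Fin N) L)).toMonoidHom U
    have hGσ : G.map (MvPolynomial.map (σ : L →+* L)) = (U' : Matrix (Fin n) (Fin n) (MvPolynomial (Fin N) L)) * G *
        (U'⁻¹ : (Matrix (Fin n) (Fin n) (MvPolynomial (Fin N) L))ˣ) := by
      have h1 : G.map (MvPolynomial.map (σ : L →+* L)) =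
          ∑ a, (X a : MvPolynomial (Fin N) L) • ((ψ (b a)).map σ).map (C : L → MvPolynomial (Fin N) L) := by
        ext1 i j
        rw [Matrix.map_apply, hG, map_sum, Matrix.sum_apply]
        simp [Matrix.map_apply]
        rfl
      rw [h1, show G = ∑ a, X a • (ψ (b a)).map C from rfl, Finset.mul_sum, Finset.sum_mul]
      refine Finset.sum_congr rfl fun a _ => ?_
      rw [hψ, Matrix.mul_smul, Matrix.smul_mul, Matrix.map_mul, Matrix.map_mul]
      rfl
    show MvPolynomial.map (σ : L →+* L) G.det = G.det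
    rw [RingHom.map_det, RingHom.mapMatrix_apply, hGσ, Matrix.det_units_conj]
  obtain ⟨P₀, hP₀⟩ : ∃ P₀, MvPolynomial.map (algebraMap K L) P₀ = P := by
    refine MvPolynomial.mem_range_map_iff_coeffs_subset.mpr fun c hc => ?_
    obtain ⟨m, -, rfl⟩ := MvPolynomial.mem_coeffs_iff.mp hc
    rw [IsGalois.mem_range_algebraMap_iff_fixed]
    intro σ
    have := congr_arg (coeff m) (hfix σ)
    rwa [coeff_map] at this
  by_contra hne
  have hlt : n < N := by
    rw [hN] at hne ⊢
    refine lt_mul_left (Nat.pos_of_ne_zero hn) ?_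
    by_contra hc
    obtain rfl : n = 1 := by omega
    exact hne rfl
  obtain ⟨y, hy, hy'⟩ := hK N n P₀ (IsHomogeneous.of_map (algebraMap K L).injective (hP₀ ▸ hhom))
    (Nat.pos_of_ne_zero hn) (by rwa [pow_one])
  have hev : MvPolynomial.eval (algebraMap K L ∘ y) P = 0 := by
    rw [← hP₀, eval_map]
    refine (eval₂_comp (algebraMap K L) y P₀).symm.trans ?_
    rw [hy', map_zero]
  have hGy : G.map (MvPolynomial.eval (algebraMap K L ∘ y)) = ψ (∑ a, y a • b a) := by
    ext i j
    rw [Matrix.map_apply, hG, map_sum, map_sum, Matrix.sum_apply]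
    simp [Algebra.smul_def, Matrix.algebraMap_eq_diagonal, Matrix.diagonal_mul]
    rfl
  have hx : (∑ a, y a • b a) ≠ 0 := fun h =>
    hy (funext (Fintype.linearIndependent_iff.mp b.linearIndependent _ h))
  have hu : IsUnit (ψ (∑ a, y a • b a)).det :=
    (Matrix.isUnit_iff_isUnit_det _).mp ((IsUnit.mk0 _ hx).map ψ)
  rw [show P = G.det from rfl, RingHom.map_det, RingHom.mapMatrix_apply, hGy] at hev
  exact not_isUnit_zero (hev ▸ hu)

theorem finrank_eq_one (hK : Curves.IsCr K 1) : Module.finrank K D = 1 := by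
  obtain ⟨F, hf, hs⟩ := CSA.Splitting.exists_separable_splitting K D
  let E := IntermediateField.normalClosure K F (SeparableClosure K)
  have : IsGalois K E := ⟨⟩
  exact finrank_eq_one_of_splitting hK (L := E)
    (CSA.Splitting.splits_mono _ (IntermediateField.inclusion F.le_normalClosure) hs)

end Groth.Agent.Lib.CiField.Brauer
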