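import Groth.Agent.Lib.CiField.Basic
import Mathlib.FieldTheory.RatFunc.Basic
import Mathlib.RingTheory.AlgebraicIndependent.TranscendenceBasis
import Mathlib.RingTheory.AlgebraicIndependent.Adjoin
import Mathlib.RingTheory.Algebraic.Integral
import Mathlib.RingTheory.AlgebraicIndependent.AlgebraicClosure
import Mathlib.Algebra.Polynomial.Eval.Coeff

/-!
# Tsen-Lang: transcendental extensions of C_i fields
-/

namespace Groth.Agent.Lib.CiField.Transcendental

universe u v w

open MvPolynomial

variable {K : Type u} [Field K]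

/-- Degree at most `D` in the parameter, all coefficients forms of degree `d`. -/
def Bdd {σ : Type w} (d D : ℕ) (P : Polynomial (MvPolynomial σ K)) : Prop :=
  P.natDegree ≤ D ∧ ∀ t, (P.coeff t).IsHomogeneous d

theorem bdd_one {σ : Type w} : Bdd 0 0 (1 : Polynomial (MvPolynomial σ K)) := by
  refine ⟨by simp, fun t => ?_⟩
  rw [Polynomial.coeff_one]
  split
  · exact isHomogeneous_one _ _
  · exact isHomogeneous_zero _ _ _

theorem bdd_mul {σ : Type w} {d D d' D' : ℕ} {P Q : Polynomial (MvPolynomial σ K)} (hP : Bdd d D P)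
    (hQ : Bdd d' D' Q) : Bdd (d + d') (D + D') (P * Q) := by
  refine ⟨Polynomial.natDegree_mul_le.trans (Nat.add_le_add hP.1 hQ.1), fun t => ?_⟩
  rw [Polynomial.coeff_mul]
  exact IsHomogeneous.sum _ _ _ fun x _ => (hP.2 _).mul (hQ.2 _)

theorem bdd_pow {σ : Type w} {d D : ℕ} {P : Polynomial (MvPolynomial σ K)} (hP : Bdd d D P) :
    ∀ m : ℕ, Bdd (m * d) (m * D) (P ^ m)
  | 0 => by simpa using bdd_one
  | m + 1 => by simpa [pow_succ, Nat.succ_mul] using bdd_mul (bdd_pow hP m) hP

theorem bdd_prod {σ : Type w} {ι : Type*} [DecidableEq ι] (s : Finset ι) (d D : ι → ℕ)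
    (P : ι → Polynomial (MvPolynomial σ K)) (h : ∀ i ∈ s, Bdd (d i) (D i) (P i)) :
    Bdd (∑ i ∈ s, d i) (∑ i ∈ s, D i) (∏ i ∈ s, P i) := by
  induction s using Finset.induction with
  | empty => simpa using bdd_one
  | insert a s ha ih =>
    rw [Finset.sum_insert ha, Finset.sum_insert ha, Finset.prod_insert ha]
    exact bdd_mul (h a (Finset.mem_insert_self a s)) (ih fun i hi => h i (Finset.mem_insert_of_mem hi))

theorem bdd_sum {σ : Type w} {ι : Type*} (s : Finset ι) (d D : ℕ)
    (P : ι → Polynomial (MvPolynomial σ K)) (h : ∀ i ∈ s, Bdd d D (P i)) : Bdd d D (∑ i ∈ s, P i) := by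
  refine ⟨Polynomial.natDegree_sum_le_of_forall_le _ _ fun i hi => (h i hi).1, fun t => ?_⟩
  rw [Polynomial.finsetSum_coeff]
  exact IsHomogeneous.sum _ _ _ fun i hi => (h i hi).2 t

/-- A common nontrivial polynomial zero of forms with polynomial coefficients. -/
theorem exists_polynomial_zero {i : ℕ} (hK : Curves.IsCi K i) {r n : ℕ}
    (f : Fin r → MvPolynomial (Fin n) (Polynomial K)) (d : Fin r → ℕ)
    (hf : ∀ ρ, (f ρ).IsHomogeneous (d ρ)) (hd : ∀ ρ, 0 < d ρ) (hlt : ∑ ρ, d ρ ^ (i + 1) < n) :
    ∃ a : Fin n → Polynomial K, a ≠ 0 ∧ ∀ ρ, MvPolynomial.eval a (f ρ) = 0 := by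
  classical
  let e : ℕ := Finset.univ.sup fun ρ => (f ρ).support.sup fun m => ((f ρ).coeff m).natDegree
  let N : ℕ := (e + 1) * ∑ ρ, d ρ ^ i
  let v : Fin n → Polynomial (MvPolynomial (Fin (n * (N + 1))) K) := fun j =>
    ∑ s : Fin (N + 1), Polynomial.C (X (finProdFinEquiv (j, s))) * Polynomial.X ^ (s : ℕ)
  let c : Polynomial K →+* Polynomial (MvPolynomial (Fin (n * (N + 1))) K) :=
    Polynomial.mapRingHom MvPolynomial.C
  have hv : ∀ j, Bdd 1 N (v j) := fun j => bdd_sum _ _ _ _ fun s _ => by
    refine ⟨(Polynomial.natDegree_C_mul_X_pow_le _ _).trans (Nat.le_of_lt_succ s.isLt), fun t => ?_⟩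
    rw [Polynomial.coeff_C_mul, Polynomial.coeff_X_pow]
    split
    · simpa using isHomogeneous_X K _
    · simpa using isHomogeneous_zero _ _ _
  have hG : ∀ ρ, Bdd (d ρ) (e + d ρ * N) (eval₂ c v (f ρ)) := fun ρ => by
    rw [eval₂_eq]
    refine bdd_sum _ _ _ _ fun m hm => ?_
    have hcm : Bdd 0 e (c ((f ρ).coeff m)) := by
      refine ⟨Polynomial.natDegree_map_le.trans ((Finset.le_sup hm (f := fun m => ((f ρ).coeff m).natDegree)).trans
        (Finset.le_sup (Finset.mem_univ ρ) (f := fun ρ => (f ρ).support.sup fun m => ((f ρ).coeff m).natDegree))),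
        fun t => ?_⟩
      simp only [c, Polynomial.coe_mapRingHom, Polynomial.coeff_map]
      exact isHomogeneous_C _ _
    have hdeg : ∑ j ∈ m.support, m j = d ρ := by
      have := (hf ρ).degree_eq_sum_deg_support hm
      simpa using this.symm
    have hp := bdd_prod m.support (fun j => m j * 1) (fun j => m j * N) (fun j => v j ^ m j)
      fun j _ => bdd_pow (hv j) (m j)
    simp only [mul_one, ← Finset.sum_mul, hdeg] at hp
    simpa using bdd_mul hcm hp
  let R := Σ ρ : Fin r, Fin (e + d ρ * N + 1)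
  let q : Fin (Fintype.card R) ≃ R := (Fintype.equivFin R).symm
  obtain ⟨y, hy, hy'⟩ := hK (Fintype.card R) (n * (N + 1))
    (fun z => (eval₂ c v (f (q z).1)).coeff (q z).2) (fun z => d (q z).1)
    (fun z => (hG _).2 _) (fun z => hd _) (by
      rw [q.sum_comp (fun z : R => d z.1 ^ i), Fintype.sum_sigma]
      simp only [Finset.sum_const, Finset.card_univ, Fintype.card_fin, smul_eq_mul]
      calc ∑ ρ, (e + d ρ * N + 1) * d ρ ^ i = (∑ ρ, d ρ ^ (i + 1)) * N + (e + 1) * ∑ ρ, d ρ ^ i := by
            rw [Finset.sum_mul, Finset.mul_sum, ← Finset.sum_add_distrib]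
            exact Finset.sum_congr rfl fun ρ _ => by ring
        _ = (∑ ρ, d ρ ^ (i + 1)) * N + N := rfl
        _ = (∑ ρ, d ρ ^ (i + 1) + 1) * N := by ring
        _ ≤ n * N := Nat.mul_le_mul_right N hlt
        _ < n * (N + 1) := Nat.mul_lt_mul_of_pos_left (Nat.lt_succ_self N) (by omega))
  refine ⟨fun j => ∑ s : Fin (N + 1), Polynomial.C (y (finProdFinEquiv (j, s))) * Polynomial.X ^ (s : ℕ),
    fun h => hy (funext fun z => ?_), fun ρ => ?_⟩
  · obtain ⟨⟨j, s⟩, rfl⟩ := finProdFinEquiv.surjective z
    simpa [Polynomial.finsetSum_coeff, Polynomial.coeff_X_pow, Fin.val_inj] using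
      congr(Polynomial.coeff $(congr_fun h j) (s : ℕ))
  · have h1 : (eval₂ c v (f ρ)).map (MvPolynomial.eval y) = MvPolynomial.eval
        (fun j => ∑ s : Fin (N + 1), Polynomial.C (y (finProdFinEquiv (j, s))) * Polynomial.X ^ (s : ℕ)) (f ρ) := by
      rw [← Polynomial.coe_mapRingHom, eval₂_comp_left]
      rw [show (Polynomial.mapRingHom (MvPolynomial.eval y)).comp c = RingHom.id _ from
        Polynomial.ringHom_ext (fun a => by simp [c]) (by simp [c])]
      refine congr_arg (fun g => eval₂ (RingHom.id _) g (f ρ)) (funext fun j => ?_)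
      simp [v, Polynomial.map_sum]
    rw [← h1]
    ext t
    rw [Polynomial.coeff_map, Polynomial.coeff_zero]
    by_cases ht : t < e + d ρ * N + 1
    · obtain ⟨z, hz⟩ := q.surjective ⟨ρ, ⟨t, ht⟩⟩
      have := hy' z
      rwa [hz] at this
    · rw [Polynomial.coeff_eq_zero_of_natDegree_lt (lt_of_le_of_lt (hG ρ).1 (by omega)), map_zero]

theorem isCi_ratFunc {i : ℕ} (hK : Curves.IsCi K i) : Curves.IsCi (RatFunc K) (i + 1) := by
  classical
  intro r n f d hf hd hlt
  have hclear : ∀ ρ, ∃ (b : Polynomial K) (g : MvPolynomial (Fin n) (Polynomial K)), b ≠ 0 ∧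
      g.IsHomogeneous (d ρ) ∧ MvPolynomial.map (algebraMap (Polynomial K) (RatFunc K)) g =
        C (algebraMap _ (RatFunc K) b) * f ρ := by
    intro ρ
    obtain ⟨⟨b, hb⟩, hb'⟩ := IsLocalization.exist_integer_multiples (nonZeroDivisors (Polynomial K))
      (f ρ).support (fun m => (f ρ).coeff m)
    have hmem : C (algebraMap _ (RatFunc K) b) * f ρ ∈
        Set.range (MvPolynomial.map (algebraMap (Polynomial K) (RatFunc K))) := by
      refine MvPolynomial.mem_range_map_iff_coeffs_subset.mpr fun c hc => ?_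
      obtain ⟨m, hm, rfl⟩ := MvPolynomial.mem_coeffs_iff.mp hc
      rw [coeff_C_mul] at ⊢
      by_cases h : m ∈ (f ρ).support
      · have := hb' m h
        simpa [IsLocalization.IsInteger, Algebra.smul_def] using this
      · rw [MvPolynomial.notMem_support_iff.mp h, mul_zero]
        exact ⟨0, map_zero _⟩
    obtain ⟨g, hg⟩ := hmem
    refine ⟨b, g, nonZeroDivisors.ne_zero hb, ?_, hg⟩
    exact IsHomogeneous.of_map (IsFractionRing.injective (Polynomial K) (RatFunc K))
      (hg ▸ (hf ρ).C_mul _)
  choose b g hb hg hbg using hclear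
  obtain ⟨a, ha, ha'⟩ := exists_polynomial_zero hK g d hg hd hlt
  refine ⟨fun j => algebraMap _ (RatFunc K) (a j), fun h => ha (funext fun j =>
    IsFractionRing.injective (Polynomial K) (RatFunc K) (by simpa using congr_fun h j)), fun ρ => ?_⟩
  have h := congr_arg (MvPolynomial.eval fun j => algebraMap _ (RatFunc K) (a j)) (hbg ρ)
  rw [map_mul, eval_C, eval_map] at h
  rw [show eval₂ (algebraMap (Polynomial K) (RatFunc K)) (fun j => algebraMap _ (RatFunc K) (a j)) (g ρ) =
      algebraMap _ (RatFunc K) (MvPolynomial.eval a (g ρ)) from (eval₂_comp _ a (g ρ)).symm,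
    ha' ρ, map_zero] at h
  exact (mul_eq_zero.mp h.symm).resolve_left fun h0 =>
    hb ρ (IsFractionRing.injective (Polynomial K) (RatFunc K) (by simpa using h0))

theorem isCi_of_transcendental {L : Type v} [Field L] [Algebra K L] (x : L) (hx : Transcendental K x)
    (halg : Algebra.IsAlgebraic (Algebra.adjoin K ({x} : Set L)) L) {i : ℕ} (hK : Curves.IsCi K i) :
    Curves.IsCi L (i + 1) := by
  have hinj : Function.Injective (Polynomial.aeval x : Polynomial K →ₐ[K] L) :=
    transcendental_iff_injective.mp hx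
  have hle : nonZeroDivisors (Polynomial K) ≤
      (nonZeroDivisors L).comap (Polynomial.aeval x : Polynomial K →ₐ[K] L) :=
    fun p hp => mem_nonZeroDivisors_of_ne_zero fun h =>
      nonZeroDivisors.ne_zero hp (hinj (h.trans (map_zero _).symm))
  let φ : RatFunc K →ₐ[K] L := RatFunc.liftAlgHom (Polynomial.aeval x) hle
  letI : Algebra (RatFunc K) L := φ.toRingHom.toAlgebra
  have : Algebra.IsAlgebraic (RatFunc K) L := by
    have h1 : ∀ p : Polynomial K, φ (algebraMap _ (RatFunc K) p) = Polynomial.aeval x p := fun p =>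
      RatFunc.liftRingHom_algebraMap _ hle p
    let ψ : Algebra.adjoin K ({x} : Set L) →ₐ[K] RatFunc K :=
      ((IsScalarTower.toAlgHom K (Polynomial K) (RatFunc K)).comp
        (AlgEquiv.ofInjective (Polynomial.aeval (R := K) x) hinj).symm.toAlgHom).comp
        (Subalgebra.equivOfEq _ _ (Algebra.adjoin_singleton_eq_range_aeval K x)).toAlgHom
    letI : Algebra (Algebra.adjoin K ({x} : Set L)) (RatFunc K) := ψ.toRingHom.toAlgebra
    have : IsScalarTower (Algebra.adjoin K ({x} : Set L)) (RatFunc K) L := by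
      refine IsScalarTower.of_algebraMap_eq fun z => ?_
      obtain ⟨p, hp⟩ := (AlgEquiv.ofInjective (Polynomial.aeval (R := K) x) hinj).surjective
        (Subalgebra.equivOfEq _ _ (Algebra.adjoin_singleton_eq_range_aeval K x) z)
      show (z : L) = φ (ψ z)
      have hz : ψ z = algebraMap _ (RatFunc K) p := by
        show algebraMap _ (RatFunc K) ((AlgEquiv.ofInjective (Polynomial.aeval (R := K) x) hinj).symm _) = _
        exact congr_arg _ ((congr_arg _ hp.symm).trans (AlgEquiv.symm_apply_apply _ p))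
      rw [hz, h1]
      exact (congr_arg Subtype.val hp).symm
    exact Algebra.IsAlgebraic.extendScalars (R := Algebra.adjoin K ({x} : Set L))
      (fun a b h => by
        have := congr_arg (fun z : RatFunc K => φ z) h
        have ha : ∀ z : Algebra.adjoin K ({x} : Set L), (z : L) = φ (algebraMap _ (RatFunc K) z) := fun z =>
          IsScalarTower.algebraMap_apply (Algebra.adjoin K ({x} : Set L)) (RatFunc K) L z
        exact Subtype.ext ((ha a).trans (this.trans (ha b).symm)))
  exact Basic.isCi_of_isAlgebraic (isCi_ratFunc hK)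

theorem isAlgebraic_mono {k : Type*} {F : Type*} {L : Type*} [CommRing k] [CommRing F] [CommRing L] [Algebra k L]
    [Algebra F L] (A : Subalgebra k L) (B : Subalgebra F L) (h : ∀ a ∈ A, a ∈ B)
    (halg : Algebra.IsAlgebraic A L) : Algebra.IsAlgebraic B L := by
  let f : A →+* B :=
    { toFun := fun a => ⟨a.1, h a.1 a.2⟩
      map_one' := rfl
      map_mul' := fun _ _ => rfl
      map_zero' := rfl
      map_add' := fun _ _ => rfl }
  exact ⟨fun z => (Algebra.IsAlgebraic.isAlgebraic (R := A) z).ringHom_of_comp_eq f (RingHom.id L)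
    (fun a b hab => Subtype.ext (congr_arg Subtype.val hab :)) rfl⟩

theorem adjoin_le_subalgebra {k : Type*} {F : Type*} {L : Type*} [CommRing k] [CommRing F] [CommRing L]
    [Algebra k F] [Algebra k L] [Algebra F L] [IsScalarTower k F L] {s : Set L} (B : Subalgebra F L)
    (hs : ∀ a ∈ s, a ∈ B) : ∀ a ∈ Algebra.adjoin k s, a ∈ B := fun a ha =>
  (Algebra.adjoin_le (S := B.restrictScalars k) hs) ha

theorem isCi_add {m : ℕ} : ∀ (t : ℕ) {k : Type u} [Field k] {L : Type v} [Field L] [Algebra k L]
    (x : Fin t → L), IsTranscendenceBasis k x → Curves.IsCi k m → Curves.IsCi L (m + t) := by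
  intro t
  induction t with
  | zero =>
    intro k _ L _ _ x hx hk
    have : Algebra.IsAlgebraic k L := hx.isEmpty_iff_isAlgebraic.mp inferInstance
    exact Basic.isCi_of_isAlgebraic hk
  | succ t ih =>
    intro k _ L _ _ x hx hk
    let x₀ : Fin t → L := fun j => x j.castSucc
    let F := IntermediateField.adjoin k (Set.range x₀)
    let y : Fin t → F := fun j => ⟨x₀ j, IntermediateField.subset_adjoin k _ ⟨j, rfl⟩⟩
    have hy : IsTranscendenceBasis k y := by
      have hi : AlgebraicIndependent k (F.val ∘ y) := hx.1.comp _ (Fin.castSucc_injective t)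
      refine (AlgebraicIndependent.of_comp F.val hi).isTranscendenceBasis_iff_isAlgebraic.mpr ?_
      have htop : IntermediateField.adjoin k (Set.range y) = (⊤ : IntermediateField k F) := by
        apply IntermediateField.map_injective F.val
        rw [IntermediateField.adjoin_map, ← AlgHom.fieldRange_eq_map, IntermediateField.fieldRange_val,
          ← Set.range_comp]
        rfl
      have h1 : Algebra.IsAlgebraic (IntermediateField.adjoin k (Set.range y)) F :=
        ⟨fun z => isAlgebraic_algebraMap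
          (⟨z, htop ▸ IntermediateField.mem_top⟩ : IntermediateField.adjoin k (Set.range y))⟩
      exact IntermediateField.isAlgebraic_adjoin_iff_top.mp h1
    have hF := ih (L := F) y hy hk
    refine isCi_of_transcendental (K := F) (x (Fin.last t)) ?_ ?_ hF
    · intro halg
      have hnm : Fin.last t ∉ Set.range (Fin.castSucc : Fin t → Fin (t + 1)) := by
        rintro ⟨j, hj⟩; exact (Fin.castSucc_lt_last j).ne hj
      have := hx.1.transcendental_adjoin (s := Set.range (Fin.castSucc : Fin t → Fin (t + 1))) hnm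
      rw [← Set.range_comp] at this
      exact this (IntermediateField.isAlgebraic_adjoin_iff.mp halg)
    · refine isAlgebraic_mono (Algebra.adjoin k (Set.range x))
        (Algebra.adjoin F ({x (Fin.last t)} : Set L)) ?_ hx.isAlgebraic
      refine adjoin_le_subalgebra (k := k) (F := F) _ ?_
      rintro _ ⟨j, rfl⟩
      induction j using Fin.lastCases with
      | last => exact Algebra.subset_adjoin rfl
      | cast j => exact Subalgebra.algebraMap_mem _ (y j)

end Groth.Agent.Lib.CiField.Transcendental
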