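import Groth.Prelude.Def_Curves
import Mathlib.RingTheory.MvPolynomial.Homogeneous
import Mathlib.RingTheory.Nullstellensatz
import Mathlib.RingTheory.Ideal.KrullsHeightTheorem
import Mathlib.RingTheory.Norm.Basic
import Mathlib.LinearAlgebra.Matrix.Adjugate
import Mathlib.FieldTheory.IntermediateField.Adjoin.Basic
import Mathlib.Algebra.MvPolynomial.CommRing
import Mathlib.LinearAlgebra.Dimension.Free

/-!
# C_i fields: algebraically closed fields, algebraic extensions
-/

namespace Groth.Agent.Lib.CiField.Basic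

universe u v w

open MvPolynomial

/-- An algebra map between fields transports C_i along a bijection. -/
theorem isCi_of_ringEquiv {K : Type u} [Field K] {L : Type v} [Field L] (e : K ≃+* L) {i : ℕ}
    (hK : Curves.IsCi K i) : Curves.IsCi L i := by
  intro r n f d hf hd hlt
  obtain ⟨a, ha, ha'⟩ := hK r n (fun ρ => MvPolynomial.map e.symm.toRingHom (f ρ)) d
    (fun ρ => (hf ρ).map _) hd hlt
  refine ⟨fun j => e (a j), fun h => ha (funext fun j => e.injective (by simpa using congr_fun h j)), fun ρ => ?_⟩
  have h := congr_arg e (ha' ρ)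
  rw [MvPolynomial.eval_map, map_zero, ← RingEquiv.coe_toRingHom, MvPolynomial.eval₂_comp_left] at h
  rw [show (e : K →+* L).comp e.symm.toRingHom = RingHom.id L from RingHom.ext e.apply_symm_apply] at h
  exact h

theorem isCr_of_isCi {K : Type u} [Field K] {i : ℕ} (hK : Curves.IsCi K i) : Curves.IsCr K i := by
  intro n d f hf hd hlt
  obtain ⟨a, ha, ha'⟩ := hK 1 n (fun _ => f) (fun _ => d) (fun _ => hf) (fun _ => hd) (by simpa using hlt)
  exact ⟨a, ha, ha' 0⟩

section AlgClosed

variable (k : Type u) [Field k] (n : ℕ)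

/-- The substitution killing the first `j` variables. -/
noncomputable def killFirst (j : ℕ) : MvPolynomial (Fin n) k →ₐ[k] MvPolynomial (Fin n) k :=
  aeval fun i => if (i : ℕ) < j then 0 else X i

theorem killFirst_comp {i j : ℕ} (h : i ≤ j) :
    (killFirst k n j).comp (killFirst k n i) = killFirst k n j := by
  ext a
  simp only [killFirst, AlgHom.comp_apply, aeval_X]
  split_ifs with h1 h2
  · simp
  · omega
  all_goals simp [*]

theorem lt_ker_killFirst {j : ℕ} (hj : j < n) :
    RingHom.ker (killFirst k n j) < RingHom.ker (killFirst k n (j + 1)) := by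
  refine lt_of_le_of_ne (fun x hx => ?_) fun h => ?_
  · rw [RingHom.mem_ker] at hx ⊢
    rw [← killFirst_comp k n (Nat.le_succ j), AlgHom.comp_apply, hx, map_zero]
  · have hx : (X (⟨j, hj⟩ : Fin n) : MvPolynomial (Fin n) k) ∈ RingHom.ker (killFirst k n (j + 1)) := by
      simp [RingHom.mem_ker, killFirst]
    rw [← h] at hx
    simp [RingHom.mem_ker, killFirst] at hx

theorem le_height_ker_killFirst (j : ℕ) (hj : j ≤ n) :
    (j : ℕ∞) ≤ (RingHom.ker (killFirst k n j)).height := by
  induction j with
  | zero => simp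
  | succ j ih =>
    have : (RingHom.ker (killFirst k n j)).IsPrime := RingHom.ker_isPrime _
    have : (RingHom.ker (killFirst k n (j + 1))).IsPrime := RingHom.ker_isPrime _
    refine le_trans ?_ (Ideal.height_add_one_le_of_lt_of_isPrime (lt_ker_killFirst k n (j := j) (by omega)))
    push_cast
    exact add_le_add (ih (by omega)) le_rfl

theorem isCi_zero [IsAlgClosed k] : Curves.IsCi k 0 := by
  classical
  intro r n f d hf hd hlt
  simp only [pow_zero, Finset.sum_const, Finset.card_univ, Fintype.card_fin, smul_eq_mul, mul_one] at hlt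
  by_contra! hno
  let I : Ideal (MvPolynomial (Fin n) k) := Ideal.span (Set.range f)
  let P := RingHom.ker (killFirst k n n)
  have hP0 : ∀ p : MvPolynomial (Fin n) k, p ∈ P ↔ MvPolynomial.eval (0 : Fin n → k) p = 0 := by
    intro p
    have h : killFirst k n n p = C (MvPolynomial.eval (0 : Fin n → k) p) := by
      have : killFirst k n n = (Algebra.ofId k _).comp (aeval (0 : Fin n → k)) := by
        ext i; simp [killFirst, Algebra.ofId_apply]
      rw [this]; rfl
    rw [RingHom.mem_ker, h, map_eq_zero_iff _ (C_injective _ _)]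
  have hfP : ∀ ρ, MvPolynomial.eval (0 : Fin n → k) (f ρ) = 0 := fun ρ => by
    rw [MvPolynomial.eval_zero, constantCoeff_eq]
    exact (hf ρ).coeff_eq_zero (by simpa using (hd ρ).ne)
  have hP : P.IsPrime := RingHom.ker_isPrime _
  have hrad : I.radical = P := by
    rw [← vanishingIdeal_zeroLocus_eq_radical (k := k) (K := k) I]
    ext p
    rw [mem_vanishingIdeal_iff, hP0]
    have hz : zeroLocus k I = {(0 : Fin n → k)} := by
      ext x
      rw [mem_zeroLocus_iff, Set.mem_singleton_iff]
      constructor
      · intro h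
        by_contra hx
        obtain ⟨ρ, hρ⟩ := hno x hx
        exact hρ (by simpa [aeval_eq_eval] using h (f ρ) (Ideal.subset_span ⟨ρ, rfl⟩))
      · rintro rfl q hq
        have hle : I ≤ P := Ideal.span_le.mpr (by rintro _ ⟨ρ, rfl⟩; exact (hP0 _).mpr (hfP ρ))
        simpa [aeval_eq_eval] using (hP0 q).mp (hle hq)
    rw [hz]
    simp [aeval_eq_eval]
  have hmin : P ∈ I.minimalPrimes := by
    refine ⟨⟨hP, hrad ▸ Ideal.le_radical⟩, fun Q ⟨hQ, hIQ⟩ _ => ?_⟩
    exact hrad ▸ hQ.radical_le_iff.mpr hIQ
  have h1 : P.height ≤ r := by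
    have h := Ideal.height_le_card_of_mem_minimalPrimes_span_finset (s := Finset.univ.image f)
      (p := P) (by simpa [I] using hmin)
    refine h.trans ?_
    exact_mod_cast Finset.card_image_le.trans (by simp)
  have h2 := (le_height_ker_killFirst k n n le_rfl).trans h1
  rw [Nat.cast_le] at h2
  omega

end AlgClosed

section FiniteExtension

variable {K : Type u} [Field K] {L : Type v} [Field L] [Algebra K L] {N : ℕ}
  (b : Module.Basis (Fin N) K L) {n : ℕ}

/-- Substitution of general coordinates with respect to a basis. -/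
noncomputable def subst : MvPolynomial (Fin n) L →ₐ[L] MvPolynomial (Fin (n * N)) L :=
  aeval fun j => ∑ a, C (b a) * X (finProdFinEquiv (j, a))

/-- The coefficientwise coordinate of a polynomial. -/
noncomputable def coordPoly {σ : Type w} (a : Fin N) (g : MvPolynomial σ L) : MvPolynomial σ K :=
  ∑ m ∈ g.support, monomial m (b.coord a (g.coeff m))

theorem coeff_coordPoly {σ : Type w} (a : Fin N) (g : MvPolynomial σ L) (m : σ →₀ ℕ) :
    (coordPoly b a g).coeff m = b.coord a (g.coeff m) := by
  classical
  rw [coordPoly, coeff_sum]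
  simp only [coeff_monomial]
  rw [Finset.sum_ite_eq']
  split_ifs with h
  · rfl
  · rw [MvPolynomial.notMem_support_iff.mp h, map_zero]

theorem eq_sum_coordPoly {σ : Type w} (g : MvPolynomial σ L) :
    g = ∑ a, C (b a) * MvPolynomial.map (algebraMap K L) (coordPoly b a g) := by
  ext m
  rw [coeff_sum]
  simp only [coeff_C_mul, coeff_map, coeff_coordPoly, Module.Basis.coord_apply]
  conv_lhs => rw [← b.sum_repr (g.coeff m)]
  exact Finset.sum_congr rfl fun a _ => by rw [Algebra.smul_def, mul_comm]

theorem isHomogeneous_coordPoly {σ : Type w} (a : Fin N) {g : MvPolynomial σ L} {d : ℕ}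
    (hg : g.IsHomogeneous d) : (coordPoly b a g).IsHomogeneous d := fun m hm =>
  hg (fun h => hm (by rw [coeff_coordPoly, h, map_zero]))

theorem isHomogeneous_subst {f : MvPolynomial (Fin n) L} {d : ℕ} (hf : f.IsHomogeneous d) :
    (subst b f).IsHomogeneous d := by
  have h : ∀ j : Fin n, (∑ a, C (b a) * X (finProdFinEquiv (j, a)) :
      MvPolynomial (Fin (n * N)) L).IsHomogeneous 1 := fun j =>
    IsHomogeneous.sum _ _ _ fun a _ => isHomogeneous_C_mul_X _ _
  simpa [subst] using hf.aeval _ h

theorem eval_subst (f : MvPolynomial (Fin n) L) (y : Fin (n * N) → K) :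
    MvPolynomial.eval (fun j => ∑ a, y (finProdFinEquiv (j, a)) • b a) f =
      ∑ a, b a * algebraMap K L (MvPolynomial.eval y (coordPoly b a (subst b f))) := by
  have h : MvPolynomial.eval (algebraMap K L ∘ y) (subst b f) =
      MvPolynomial.eval (fun j => ∑ a, y (finProdFinEquiv (j, a)) • b a) f := by
    rw [subst, ← aeval_eq_eval, ← aeval_eq_eval, ← AlgHom.comp_apply, comp_aeval]
    simp [Algebra.smul_def, mul_comm]
  rw [← h]
  conv_lhs => rw [eq_sum_coordPoly b (subst b f)]
  rw [map_sum]
  refine Finset.sum_congr rfl fun a _ => ?_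
  rw [map_mul, eval_C, eval_map, MvPolynomial.eval₂_comp]

include b

theorem basis_vec_ne_zero {y : Fin (n * N) → K} (hy : y ≠ 0) :
    (fun j : Fin n => ∑ a, y (finProdFinEquiv (j, a)) • b a) ≠ 0 := by
  intro h
  refine hy (funext fun q => ?_)
  obtain ⟨⟨j, a⟩, rfl⟩ := finProdFinEquiv.surjective q
  exact Fintype.linearIndependent_iff.mp b.linearIndependent _ (congr_fun h j) a

omit b

theorem isCi_of_finite [FiniteDimensional K L] {i : ℕ} (hK : Curves.IsCi K i) : Curves.IsCi L i := by
  intro r n f d hf hd hlt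
  set N := Module.finrank K L
  have b := Module.finBasis K L
  have hN : 0 < N := Module.finrank_pos
  obtain ⟨y, hy, hy'⟩ := hK (r * N) (n * N)
    (fun q => coordPoly b (finProdFinEquiv.symm q).2 (subst b (f (finProdFinEquiv.symm q).1)))
    (fun q => d (finProdFinEquiv.symm q).1)
    (fun q => isHomogeneous_coordPoly b _ (isHomogeneous_subst b (hf _))) (fun q => hd _) (by
      rw [← finProdFinEquiv.sum_comp, Fintype.sum_prod_type]
      simp only [Equiv.symm_apply_apply, Finset.sum_const, Finset.card_univ, Fintype.card_fin, smul_eq_mul,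
        ← Finset.mul_sum]
      rw [mul_comm n N]
      exact Nat.mul_lt_mul_of_pos_left hlt hN)
  refine ⟨_, basis_vec_ne_zero b hy, fun ρ => ?_⟩
  rw [eval_subst]
  refine Finset.sum_eq_zero fun a _ => ?_
  have h := hy' (finProdFinEquiv (ρ, a))
  rw [Equiv.symm_apply_apply] at h
  rw [h, map_zero, mul_zero]

theorem isCr_one_of_finite [FiniteDimensional K L] (hK : Curves.IsCr K 1) : Curves.IsCr L 1 := by
  classical
  intro n d f hf hd hlt
  rw [pow_one] at hlt
  set N := Module.finrank K L
  have b := Module.finBasis K L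
  have hN : 0 < N := Module.finrank_pos
  -- the matrix of multiplication by the value of `f`
  let M : Matrix (Fin N) (Fin N) (MvPolynomial (Fin (n * N)) K) := fun i j =>
    ∑ a, C (Algebra.leftMulMatrix b (b a) i j) * coordPoly b a (subst b f)
  have hM : ∀ i j, (M i j).IsHomogeneous d := fun i j =>
    IsHomogeneous.sum _ _ _ fun a _ =>
      (isHomogeneous_coordPoly b a (isHomogeneous_subst b hf)).C_mul _
  have hdet : M.det.IsHomogeneous (N * d) := by
    rw [Matrix.det_apply]
    refine IsHomogeneous.sum _ _ _ fun σ _ => ?_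
    rw [Units.smul_def, zsmul_eq_mul, ← map_intCast (C : K →+* MvPolynomial (Fin (n * N)) K)]
    refine IsHomogeneous.C_mul ?_ _
    simpa using IsHomogeneous.prod Finset.univ (fun i => M (σ i) i) (fun _ => d) fun i _ => hM _ _
  obtain ⟨y, hy, hy'⟩ := hK (n * N) (N * d) M.det hdet (Nat.mul_pos hN hd) (by
    rw [pow_one, mul_comm n N]
    exact Nat.mul_lt_mul_of_pos_left hlt hN)
  refine ⟨_, basis_vec_ne_zero b hy, ?_⟩
  set z := MvPolynomial.eval (fun j => ∑ a, y (finProdFinEquiv (j, a)) • b a) f
  have hz : M.map (MvPolynomial.eval y) = Algebra.leftMulMatrix b z := by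
    rw [show z = _ from eval_subst b f y, map_sum]
    ext i j
    rw [Matrix.map_apply]
    simp only [Matrix.sum_apply, M, map_sum, map_mul, eval_C, AlgHom.commutes,
      Matrix.algebraMap_eq_diagonal, Matrix.mul_diagonal, Pi.algebraMap_apply, Algebra.algebraMap_self_apply]
  rw [RingHom.map_det, RingHom.mapMatrix_apply, hz, ← Algebra.norm_eq_matrix_det] at hy'
  exact Algebra.norm_eq_zero_iff.mp hy'

end FiniteExtension

theorem isCi_of_isAlgebraic {K : Type u} [Field K] {L : Type v} [Field L] [Algebra K L]
    [Algebra.IsAlgebraic K L] {i : ℕ} (hK : Curves.IsCi K i) : Curves.IsCi L i := by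
  classical
  intro r n f d hf hd hlt
  let S : Finset L := Finset.univ.biUnion fun ρ => (f ρ).support.image fun m => (f ρ).coeff m
  let E := IntermediateField.adjoin K (S : Set L)
  have : FiniteDimensional K E := IntermediateField.finiteDimensional_adjoin
    (fun x _ => (Algebra.IsAlgebraic.isAlgebraic x).isIntegral)
  have hmem : ∀ ρ, ∃ g : MvPolynomial (Fin n) E, MvPolynomial.map (algebraMap E L) g = f ρ := fun ρ => by
    refine MvPolynomial.mem_range_map_iff_coeffs_subset.mpr fun c hc => ?_
    obtain ⟨m, hm, rfl⟩ := MvPolynomial.mem_coeffs_iff.mp hc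
    exact ⟨⟨_, IntermediateField.subset_adjoin K _ (Finset.mem_coe.mpr (Finset.mem_biUnion.mpr
      ⟨ρ, Finset.mem_univ _, Finset.mem_image_of_mem _ hm⟩))⟩, rfl⟩
  choose g hg using hmem
  obtain ⟨a, ha, ha'⟩ := isCi_of_finite (L := E) hK r n g d
    (fun ρ => IsHomogeneous.of_map (algebraMap E L).injective (by rw [hg]; exact hf ρ)) hd hlt
  refine ⟨fun j => algebraMap E L (a j), fun h => ha (funext fun j =>
    (algebraMap E L).injective (by simpa using congr_fun h j)), fun ρ => ?_⟩
  rw [← hg ρ, eval_map]
  refine (eval₂_comp (algebraMap E L) a (g ρ)).symm.trans ?_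
  rw [ha' ρ, map_zero]

end Groth.Agent.Lib.CiField.Basic
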